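import Mathlib
import Groth.Prelude.Def_W4c4lgringredgrpLG

set_option autoImplicit false

noncomputable section
namespace Groth.Agent.LG97
open MvPolynomial TensorProduct
universe u
variable {R : Type u} [CommRing R]

lemma rep_fintype (hR : LGRing.IsLGRing R) {σ : Type} [Fintype σ] (f : MvPolynomial σ R)
    (h : ∀ (m : Ideal R) [m.IsMaximal], LGRing.RepresentsUnit f (R ⧸ m)) : LGRing.RepresentsUnit f R := by
  classical
  let e := Fintype.equivFin σ
  obtain ⟨s, hs⟩ := hR (Fintype.card σ) (rename e f) (fun m _ => by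
    obtain ⟨s, hs⟩ := h m
    exact ⟨s ∘ e.symm, by rwa [aeval_rename, Function.comp_assoc, e.symm_comp_self, Function.comp_id]⟩)
  exact ⟨s ∘ e, by rwa [aeval_rename] at hs⟩

lemma exists_split (M : Type*) [AddCommGroup M] [Module R M] [Module.Finite R M] [Module.Projective R M] :
    ∃ (a : ℕ) (i : M →ₗ[R] (Fin a → R)) (p : (Fin a → R) →ₗ[R] M), p ∘ₗ i = LinearMap.id := by
  obtain ⟨a, p, i, -, -, h⟩ := Module.Finite.exists_comp_eq_id_of_projective R M
  exact ⟨a, i, p, h⟩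

lemma nontrivial_fiber (M : Type*) [AddCommGroup M] [Module R M] [Module.Finite R M] [FaithfulSMul R M]
    (m : Ideal R) [m.IsMaximal] : Nontrivial ((R ⧸ m) ⊗[R] M) := by
  by_contra h
  rw [not_nontrivial_iff_subsingleton] at h
  have := (TensorProduct.quotTensorEquivQuotSMul M m).symm.injective.subsingleton
  have hle : (⊤ : Submodule R M) ≤ m • ⊤ := fun x _ => (Submodule.Quotient.mk_eq_zero _).1 (Subsingleton.elim _ _)
  obtain ⟨r, hr, hr0⟩ := Submodule.exists_sub_one_mem_and_smul_eq_zero_of_fg_of_le_smul m ⊤ Module.Finite.fg_top hle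
  have : r = 0 := eq_of_smul_eq_smul (α := M) fun x => by rw [hr0 x trivial, zero_smul]
  subst this
  exact (Ideal.IsPrime.ne_top inferInstance : m ≠ ⊤) (m.eq_top_iff_one.2 (by simpa using hr))

theorem unimodular (hR : LGRing.IsLGRing R) (M : Type*) [AddCommGroup M] [Module R M] [Module.Finite R M]
    [Module.Projective R M] [FaithfulSMul R M] : ∃ (m : M) (f : Module.Dual R M), f m = 1 := by
  classical
  obtain ⟨a, i, p, hip⟩ := exists_split (R := R) M
  let E := LinearMap.toMatrix' (i ∘ₗ p)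
  let P : MvPolynomial (Fin a ⊕ Fin a) R := ∑ j, ∑ k, C (E j k) * X (Sum.inl j) * X (Sum.inr k)
  obtain ⟨s, hs⟩ := rep_fintype hR P fun m hm => by
    letI := Ideal.Quotient.field m
    have hne : ∃ j k, Ideal.Quotient.mk m (E j k) ≠ 0 := by
      by_contra hall; push Not at hall
      haveI := nontrivial_fiber M m
      have h0 : (i ∘ₗ p).baseChange (R ⧸ m) = 0 := by
        apply TensorProduct.AlgebraTensorModule.ext
        intro c v
        simp only [LinearMap.baseChange_tmul, LinearMap.zero_apply]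
        rw [pi_eq_sum_univ' ((i ∘ₗ p) v), TensorProduct.tmul_sum]
        refine Finset.sum_eq_zero fun j _ => ?_
        rw [← TensorProduct.smul_tmul, Algebra.smul_def, Ideal.Quotient.algebraMap_eq,
          show (i ∘ₗ p) v j = ∑ k, E j k * v k by rw [← LinearMap.toMatrix'_mulVec]; rfl, map_sum]
        simp [hall]
      have hid : (p ∘ₗ i).baseChange (R ⧸ m) = LinearMap.id := by rw [hip, LinearMap.baseChange_id]
      obtain ⟨x, hx⟩ := exists_ne (0 : (R ⧸ m) ⊗[R] M)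
      apply hx
      have e2 : (p ∘ₗ i ∘ₗ p ∘ₗ i).baseChange (R ⧸ m) = LinearMap.id := by
        rw [show p ∘ₗ i ∘ₗ p ∘ₗ i = (p ∘ₗ i) ∘ₗ (p ∘ₗ i) from rfl, hip, LinearMap.id_comp, LinearMap.baseChange_id]
      rw [show p ∘ₗ i ∘ₗ p ∘ₗ i = p ∘ₗ (i ∘ₗ p) ∘ₗ i from rfl, LinearMap.baseChange_comp, LinearMap.baseChange_comp, h0] at e2
      simpa using (LinearMap.congr_fun e2 x).symm
    obtain ⟨j, k, hjk⟩ := hne
    refine ⟨Sum.elim (Pi.single j (Ideal.Quotient.mk m (E j k))⁻¹) (Pi.single k 1), isUnit_iff_ne_zero.2 ?_⟩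
    simp [P, map_sum, Pi.single_apply, hjk]
  obtain ⟨u, hu⟩ := hs
  let φ : Module.Dual R M := (↑u⁻¹ : R) • ((LinearMap.lsum R (fun _ : Fin a => R) R (fun j => s (Sum.inl j) • LinearMap.id)) ∘ₗ i)
  refine ⟨p (s ∘ Sum.inr), φ, ?_⟩
  have : ∀ j, i (p (s ∘ Sum.inr)) j = ∑ k, E j k * s (Sum.inr k) := fun j => by
    show (i ∘ₗ p) _ j = _
    rw [← LinearMap.toMatrix'_mulVec]; rfl
  simp only [φ, LinearMap.smul_apply, LinearMap.comp_apply, LinearMap.lsum_apply, LinearMap.sum_apply, LinearMap.proj_apply, this, LinearMap.id_apply, smul_eq_mul]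
  calc (↑u⁻¹ : R) * _ = ↑u⁻¹ * ↑u := by
        congr 1
        rw [hu]; simp [P, map_sum, Finset.mul_sum]
        exact Finset.sum_congr rfl fun j _ => Finset.sum_congr rfl fun k _ => by ring
    _ = 1 := u.inv_mul

lemma fib_rank (M : Type*) [AddCommGroup M] [Module R M] [Module.Finite R M] [Module.Projective R M]
    (m : Ideal R) [m.IsMaximal] :
    Module.finrank (R ⧸ m) ((R ⧸ m) ⊗[R] M) = Module.rankAtStalk M ⟨m, inferInstance⟩ := by
  letI := Ideal.Quotient.field m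
  have h0 := Module.rankAtStalk_baseChange (R := R) (S := R ⧸ m) (M := M) (⟨⊥, Ideal.isPrime_bot⟩ : PrimeSpectrum (R ⧸ m))
  rw [Module.rankAtStalk_eq_finrank_of_free] at h0
  rw [Pi.natCast_apply] at h0
  refine h0.trans (congrArg _ (PrimeSpectrum.ext ?_))
  show (⊥ : Ideal (R ⧸ m)).comap (algebraMap R (R ⧸ m)) = m
  rw [← RingHom.ker_eq_comap_bot, Ideal.Quotient.algebraMap_eq, Ideal.mk_ker]

section
variable {S : Type*} [CommRing S] {a b : ℕ}

/-- the matrix built from two idempotents and two connecting matrices -/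
def tm (E₁ : Matrix (Fin a) (Fin a) S) (E₂ : Matrix (Fin b) (Fin b) S) (X : Matrix (Fin b) (Fin a) S)
    (Y : Matrix (Fin a) (Fin b) S) : Matrix (Fin a) (Fin a) S := E₁ * Y * E₂ * X * E₁ + (1 - E₁)

lemma map_tm {T : Type*} [CommRing T] (f : S →+* T) (E₁ : Matrix (Fin a) (Fin a) S) (E₂ : Matrix (Fin b) (Fin b) S)
    (X : Matrix (Fin b) (Fin a) S) (Y : Matrix (Fin a) (Fin b) S) :
    f (tm E₁ E₂ X Y).det = (tm (E₁.map f) (E₂.map f) (X.map f) (Y.map f)).det := by
  rw [RingHom.map_det]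
  congr 1
  simp only [tm, RingHom.mapMatrix_apply, Matrix.map_add f (map_add f), Matrix.map_sub f (map_sub f), Matrix.map_mul,
    Matrix.map_one f (map_zero f) (map_one f)]

variable {V₁ V₂ : Type*} [AddCommGroup V₁] [Module S V₁] [AddCommGroup V₂] [Module S V₂]
  {I₁ : V₁ →ₗ[S] (Fin a → S)} {P₁ : (Fin a → S) →ₗ[S] V₁} {I₂ : V₂ →ₗ[S] (Fin b → S)} {P₂ : (Fin b → S) →ₗ[S] V₂}

lemma tm_equiv (h₁ : ∀ x, P₁ (I₁ x) = x) (h₂ : ∀ x, P₂ (I₂ x) = x) (φ : V₁ ≃ₗ[S] V₂) :
    tm (LinearMap.toMatrix' (I₁ ∘ₗ P₁)) (LinearMap.toMatrix' (I₂ ∘ₗ P₂))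
      (LinearMap.toMatrix' (I₂ ∘ₗ φ.toLinearMap ∘ₗ P₁)) (LinearMap.toMatrix' (I₁ ∘ₗ φ.symm.toLinearMap ∘ₗ P₂)) = 1 := by
  apply Matrix.toLin'.injective
  apply LinearMap.ext
  intro x
  simp [tm, map_add, map_sub, Matrix.toLin'_mul, Matrix.toLin'_toMatrix', h₁, h₂]

lemma tm_bij (h₁ : ∀ x, P₁ (I₁ x) = x) (h₂ : ∀ x, P₂ (I₂ x) = x) (X : Matrix (Fin b) (Fin a) S)
    (Y : Matrix (Fin a) (Fin b) S) (hu : IsUnit (tm (LinearMap.toMatrix' (I₁ ∘ₗ P₁)) (LinearMap.toMatrix' (I₂ ∘ₗ P₂)) X Y).det) :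
    Function.Bijective fun v => P₁ (Matrix.toLin' Y (I₂ (P₂ (Matrix.toLin' X (I₁ v))))) := by
  set Z := tm (LinearMap.toMatrix' (I₁ ∘ₗ P₁)) (LinearMap.toMatrix' (I₂ ∘ₗ P₂)) X Y with hZ
  have hz : ∀ x, Matrix.toLin' Z x = I₁ (P₁ (Matrix.toLin' Y (I₂ (P₂ (Matrix.toLin' X (I₁ (P₁ x))))))) + (x - I₁ (P₁ x)) := by
    intro x
    simp [hZ, tm, map_add, map_sub, Matrix.toLin'_mul, Matrix.toLin'_toMatrix', h₁, h₂]
  have hu' : IsUnit Z := (Matrix.isUnit_iff_isUnit_det _).2 hu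
  have hl : ∀ x, Matrix.toLin' Z⁻¹ (Matrix.toLin' Z x) = x := fun x => by
    rw [← LinearMap.comp_apply, ← Matrix.toLin'_mul, Matrix.nonsing_inv_mul _ hu, Matrix.toLin'_one, LinearMap.id_apply]
  have hr : ∀ x, Matrix.toLin' Z (Matrix.toLin' Z⁻¹ x) = x := fun x => by
    rw [← LinearMap.comp_apply, ← Matrix.toLin'_mul, Matrix.mul_nonsing_inv _ hu, Matrix.toLin'_one, LinearMap.id_apply]
  have inj : Function.Injective (Matrix.toLin' Z) := Function.LeftInverse.injective hl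
  have surj : Function.Surjective (Matrix.toLin' Z) := fun x => ⟨_, hr x⟩
  constructor
  · intro x y hxy
    simp only at hxy
    have : Matrix.toLin' Z (I₁ x) = Matrix.toLin' Z (I₁ y) := by rw [hz, hz, h₁, h₁, hxy, sub_self, sub_self]
    simpa [h₁] using congrArg P₁ (inj this)
  · intro y
    obtain ⟨z, hzz⟩ := surj (I₁ y)
    refine ⟨P₁ z, ?_⟩
    have := congrArg P₁ hzz
    rw [hz, map_add, map_sub] at this
    simpa [h₁] using this
end

lemma toMatrix_baseChange (k : Type u) [CommRing k] [Algebra R k] {n : ℕ} {M : Type*} [AddCommGroup M] [Module R M]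
    (i : M →ₗ[R] (Fin n → R)) (p : (Fin n → R) →ₗ[R] M) :
    (LinearMap.toMatrix' (i ∘ₗ p)).map (algebraMap R k) =
      LinearMap.toMatrix' (((TensorProduct.piScalarRight R k k (Fin n)).toLinearMap ∘ₗ i.baseChange k) ∘ₗ
        (p.baseChange k ∘ₗ (TensorProduct.piScalarRight R k k (Fin n)).symm.toLinearMap)) := by
  ext j l
  simp [LinearMap.toMatrix'_apply, TensorProduct.piScalarRight_symm_single, Algebra.smul_def]

lemma baseChange_split (k : Type u) [CommRing k] [Algebra R k] {n : ℕ} {M : Type*} [AddCommGroup M] [Module R M]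
    (i : M →ₗ[R] (Fin n → R)) (p : (Fin n → R) →ₗ[R] M) (h : p ∘ₗ i = LinearMap.id) (x : k ⊗[R] M) :
    (p.baseChange k ∘ₗ (TensorProduct.piScalarRight R k k (Fin n)).symm.toLinearMap)
      (((TensorProduct.piScalarRight R k k (Fin n)).toLinearMap ∘ₗ i.baseChange k) x) = x := by
  simp only [LinearMap.comp_apply, LinearEquiv.coe_coe, LinearEquiv.symm_apply_apply]
  rw [← LinearMap.comp_apply, ← LinearMap.baseChange_comp, h, LinearMap.baseChange_id]; rfl

theorem iso_of_rank (hR : LGRing.IsLGRing R) (M₁ : Type*) (M₂ : Type*) [AddCommGroup M₁] [Module R M₁] [Module.Finite R M₁]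
    [Module.Projective R M₁] [AddCommGroup M₂] [Module R M₂] [Module.Finite R M₂] [Module.Projective R M₂]
    (h : ∀ (m : Ideal R) [m.IsMaximal], Module.rankAtStalk M₁ ⟨m, inferInstance⟩ = Module.rankAtStalk M₂ ⟨m, inferInstance⟩) :
    Nonempty (M₁ ≃ₗ[R] M₂) := by
  classical
  obtain ⟨a, i₁, p₁, h₁⟩ := exists_split (R := R) M₁
  obtain ⟨b, i₂, p₂, h₂⟩ := exists_split (R := R) M₂
  let σ : Type := (Fin b × Fin a) ⊕ (Fin a × Fin b)
  let Xm : Matrix (Fin b) (Fin a) (MvPolynomial σ R) := Matrix.of fun j k => MvPolynomial.X (Sum.inl (j, k))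
  let Ym : Matrix (Fin a) (Fin b) (MvPolynomial σ R) := Matrix.of fun j k => MvPolynomial.X (Sum.inr (j, k))
  let E₁ := LinearMap.toMatrix' (i₁ ∘ₗ p₁)
  let E₂ := LinearMap.toMatrix' (i₂ ∘ₗ p₂)
  let C' : R →+* MvPolynomial σ R := MvPolynomial.C
  let P := (tm (E₁.map C') (E₂.map C') Xm Ym).det * (tm (E₂.map C') (E₁.map C') Ym Xm).det
  have evalP : ∀ (S : Type u) [CommRing S] [Algebra R S] (s : σ → S), aeval s P =
      (tm (E₁.map (algebraMap R S)) (E₂.map (algebraMap R S)) (Matrix.of fun j k => s (Sum.inl (j, k))) (Matrix.of fun j k => s (Sum.inr (j, k)))).det *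
      (tm (E₂.map (algebraMap R S)) (E₁.map (algebraMap R S)) (Matrix.of fun j k => s (Sum.inr (j, k))) (Matrix.of fun j k => s (Sum.inl (j, k)))).det := by
    intro S _ _ s
    let f : MvPolynomial σ R →+* S := (aeval s : MvPolynomial σ R →ₐ[R] S).toRingHom
    have e1 : (E₁.map C').map f = E₁.map (algebraMap R S) := by ext; simp [f, C']
    have e2 : (E₂.map C').map f = E₂.map (algebraMap R S) := by ext; simp [f, C']
    have e3 : Xm.map f = Matrix.of fun j k => s (Sum.inl (j, k)) := by ext; simp [f, Xm]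
    have e4 : Ym.map f = Matrix.of fun j k => s (Sum.inr (j, k)) := by ext; simp [f, Ym]
    show f P = _
    rw [map_mul, map_tm, map_tm, e1, e2, e3, e4]
  obtain ⟨s, hs⟩ := rep_fintype hR P fun m hm => by
    letI := Ideal.Quotient.field m
    have hfr : Module.finrank (R ⧸ m) ((R ⧸ m) ⊗[R] M₁) = Module.finrank (R ⧸ m) ((R ⧸ m) ⊗[R] M₂) := by
      rw [fib_rank M₁ m, h m, ← fib_rank M₂ m]
    let φ := LinearEquiv.ofFinrankEq ((R ⧸ m) ⊗[R] M₁) ((R ⧸ m) ⊗[R] M₂) hfr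
    have t₁ := tm_equiv (baseChange_split (R ⧸ m) i₁ p₁ h₁) (baseChange_split (R ⧸ m) i₂ p₂ h₂) φ
    have t₂ := tm_equiv (baseChange_split (R ⧸ m) i₂ p₂ h₂) (baseChange_split (R ⧸ m) i₁ p₁ h₁) φ.symm
    rw [← toMatrix_baseChange, ← toMatrix_baseChange] at t₁ t₂
    rw [φ.symm_symm] at t₂
    let k := R ⧸ m
    let Θ := fun n : ℕ => TensorProduct.piScalarRight R k k (Fin n)
    refine ⟨Sum.elim (fun jk => LinearMap.toMatrix' (((Θ b).toLinearMap ∘ₗ i₂.baseChange k) ∘ₗ φ.toLinearMap ∘ₗ (p₁.baseChange k ∘ₗ (Θ a).symm.toLinearMap)) jk.1 jk.2)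
      (fun jk => LinearMap.toMatrix' (((Θ a).toLinearMap ∘ₗ i₁.baseChange k) ∘ₗ φ.symm.toLinearMap ∘ₗ (p₂.baseChange k ∘ₗ (Θ b).symm.toLinearMap)) jk.1 jk.2), ?_⟩
    rw [evalP]
    simp only [Sum.elim_inl, Sum.elim_inr]
    refine IsUnit.mul ?_ ?_
    · exact (congrArg Matrix.det t₁).symm ▸ (by simp)
    · exact (congrArg Matrix.det t₂).symm ▸ (by simp)
  rw [evalP] at hs
  simp only [Algebra.algebraMap_self, RingHom.coe_id, Matrix.map_id] at hs
  obtain ⟨hd₁, hd₂⟩ := IsUnit.mul_iff.1 hs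
  have b1 := tm_bij (LinearMap.congr_fun h₁) (LinearMap.congr_fun h₂) _ _ hd₁
  have b2 := tm_bij (LinearMap.congr_fun h₂) (LinearMap.congr_fun h₁) _ _ hd₂
  let u : M₁ →ₗ[R] M₂ := p₂ ∘ₗ Matrix.toLin' (Matrix.of fun j k => s (Sum.inl (j, k))) ∘ₗ i₁
  exact ⟨LinearEquiv.ofBijective u ⟨Function.Injective.of_comp (f := fun w => p₁ (Matrix.toLin' (Matrix.of fun j k => s (Sum.inr (j, k))) (i₂ w))) b1.1,
    Function.Surjective.of_comp (g := fun w => p₁ (Matrix.toLin' (Matrix.of fun j k => s (Sum.inr (j, k))) (i₂ w))) b2.2⟩⟩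

theorem free (hR : LGRing.IsLGRing R) (M : Type*) [AddCommGroup M] [Module R M] [Module.Finite R M] [Module.Projective R M] (d : ℕ)
    (hd : ∀ p : PrimeSpectrum R, Module.rankAtStalk M p = d) : Module.Free R M := by
  obtain ⟨e⟩ := iso_of_rank hR (Fin d → R) M fun m _ => by
    haveI : Nontrivial R := Ideal.Quotient.nontrivial_iff.2 (Ideal.IsPrime.ne_top (inferInstance : m.IsPrime)) |> fun _ => (Ideal.Quotient.mk m).domain_nontrivial
    rw [hd, Module.rankAtStalk_eq_finrank_of_free, Pi.natCast_apply, Module.finrank_pi, Fintype.card_fin]; rfl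
  exact Module.Free.of_equiv e

theorem pi_cancel (hR : LGRing.IsLGRing R) (M₁ : Type*) (M₂ : Type*) [AddCommGroup M₁] [Module R M₁] [Module.Finite R M₁] [Module.Projective R M₁]
    [AddCommGroup M₂] [Module R M₂] [Module.Finite R M₂] [Module.Projective R M₂] (n : ℕ) (hn : 0 < n)
    (e : (Fin n → M₁) ≃ₗ[R] (Fin n → M₂)) : Nonempty (M₁ ≃ₗ[R] M₂) := by
  refine iso_of_rank hR M₁ M₂ fun m _ => ?_
  have := congrFun (Module.rankAtStalk_eq_of_equiv e) ⟨m, inferInstance⟩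
  rw [Module.rankAtStalk_pi, Module.rankAtStalk_pi, finsum_eq_sum_of_fintype, finsum_eq_sum_of_fintype] at this
  simp at this
  exact this.resolve_right hn.ne'

theorem tensor_cancel (hR : LGRing.IsLGRing R) (M₁ : Type*) (M₂ : Type*) (N : Type*) [AddCommGroup M₁] [Module R M₁] [Module.Finite R M₁]
    [Module.Projective R M₁] [AddCommGroup M₂] [Module R M₂] [Module.Finite R M₂] [Module.Projective R M₂]
    [AddCommGroup N] [Module R N] [Module.Finite R N] [Module.Projective R N] [FaithfulSMul R N]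
    (e : M₁ ⊗[R] N ≃ₗ[R] M₂ ⊗[R] N) : Nonempty (M₁ ≃ₗ[R] M₂) := by
  refine iso_of_rank hR M₁ M₂ fun m _ => ?_
  obtain ⟨x, f, hx⟩ := unimodular hR N
  have hN : Module.rankAtStalk N ⟨m, inferInstance⟩ ≠ 0 := by
    intro h0
    rw [Module.rankAtStalk_eq_zero_iff_notMem_support] at h0
    apply h0
    rw [Module.mem_support_iff_exists_annihilator]
    refine ⟨x, fun r hr => ?_⟩
    have : r • x = 0 := Submodule.mem_annihilator_span_singleton x r |>.1 hr
    have := congrArg f this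
    simp [hx] at this; simp [this]
  have := congrFun (Module.rankAtStalk_eq_of_equiv e) ⟨m, inferInstance⟩
  rw [Module.rankAtStalk_tensorProduct, Module.rankAtStalk_tensorProduct] at this
  exact Nat.eq_of_mul_eq_mul_right (Nat.pos_of_ne_zero hN) this
end Groth.Agent.LG97

end

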