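import Groth.Agent.LG97.Basic
import Mathlib.AlgebraicGeometry.Scheme

/-! Rational points of quasi-compact opens of affine spaces and vector bundles over LG rings. -/

set_option autoImplicit false
universe u

open MvPolynomial AlgebraicGeometry CategoryTheory

noncomputable section

namespace Groth.Agent.LG97

variable {R : Type u} [CommRing R]

theorem range_subset_iff {A B : Type u} [CommRing A] [CommRing B] (φ : A →+* B) (t : Set A) :
    Set.range (Spec.map (CommRingCat.ofHom φ)).base ⊆ ((PrimeSpectrum.zeroLocus t)ᶜ : Set (PrimeSpectrum A)) ↔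
      Ideal.span (φ '' t) = ⊤ := by
  constructor
  · intro h
    by_contra hne
    obtain ⟨M, hM, hle⟩ := Ideal.exists_le_maximal _ hne
    exact h ⟨(⟨M, hM.isPrime⟩ : PrimeSpectrum B), rfl⟩ fun f hf => hle (Ideal.subset_span ⟨f, hf, rfl⟩)
  · rintro h _ ⟨P, rfl⟩ hz
    refine P.isPrime.ne_top (top_le_iff.1 (h.ge.trans (Ideal.span_le.2 ?_)))
    rintro _ ⟨f, hf, rfl⟩
    exact hz hf

theorem exists_finite_compl {A : Type u} [CommRing A] (U : (Spec (CommRingCat.of A)).Opens)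
    (hU : IsCompact (U : Set ↥(Spec (CommRingCat.of A)))) :
    ∃ t : Set A, t.Finite ∧ (U : Set ↥(Spec (CommRingCat.of A))) = (PrimeSpectrum.zeroLocus t)ᶜ := by
  obtain ⟨s, h2⟩ := PrimeSpectrum.isCompact_isOpen_iff.1 ⟨hU, U.isOpen⟩
  exact ⟨↑s, s.finite_toSet, h2.symm⟩

/-- Points of a quasi-compact open over an LG ring. -/
theorem exists_point (hR : LGRing.IsLGRing R) {A : Type u} [CommRing A] [Algebra R A] {a : ℕ}
    (Θ : A →ₐ[R] MvPolynomial (Fin a) R) {t : Set A} (ht : t.Finite)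
    (h : ∀ (m : Ideal R) [m.IsMaximal], ∃ x : Fin a → R ⧸ m, ∃ f ∈ t, aeval x (Θ f) ≠ 0) :
    ∃ x : Fin a → R, Ideal.span ((fun f => aeval x (Θ f)) '' t) = ⊤ := by
  classical
  haveI := ht.fintype
  let n := Fintype.card t
  let e : Fin n ≃ t := (Fintype.equivFin t).symm
  let g : MvPolynomial (Fin a ⊕ Fin n) R := ∑ i, X (Sum.inr i) * rename Sum.inl (Θ (e i).1)
  have hg : ∀ {S : Type u} [CommRing S] [Algebra R S] (s : Fin a ⊕ Fin n → S),
      aeval s g = ∑ i, s (Sum.inr i) * aeval (s ∘ Sum.inl) (Θ (e i).1) := by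
    intro S _ _ s
    simp [g, aeval_rename]
  obtain ⟨s, hs⟩ := rep_fintype hR g fun m hm => by
    letI := Ideal.Quotient.field m
    obtain ⟨x, f, hf, hx⟩ := h m
    refine ⟨Sum.elim x (Pi.single (e.symm ⟨f, hf⟩) (aeval x (Θ f))⁻¹), isUnit_iff_ne_zero.2 ?_⟩
    rw [hg, Finset.sum_eq_single (e.symm ⟨f, hf⟩) (fun b _ hb => by simp [hb]) (by simp)]
    simp [Function.comp_def, hx]
  refine ⟨s ∘ Sum.inl, Ideal.eq_top_of_isUnit_mem _ ?_ hs⟩
  rw [hg]
  exact Ideal.sum_mem _ fun i _ => Ideal.mul_mem_left _ _ (Ideal.subset_span ⟨_, (e i).2, rfl⟩)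

section Bundle

variable {M : Type u} [AddCommGroup M] [Module R M] {a : ℕ} (i : M →ₗ[R] (Fin a → R)) (p : (Fin a → R) →ₗ[R] M)

/-- The coordinates of a dual vector. -/
def coord : Module.Dual R M →ₗ[R] MvPolynomial (Fin a) R :=
  ∑ j, LinearMap.smulRight (LinearMap.applyₗ (p (Pi.single j 1))) (X j)

theorem coord_apply (d : Module.Dual R M) : coord p d = ∑ j, d (p (Pi.single j 1)) • X j := by
  simp [coord, LinearMap.sum_apply]

/-- The dual of the bundle as a retract of a polynomial ring. -/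
def θ : SymmetricAlgebra R (Module.Dual R M) →ₐ[R] MvPolynomial (Fin a) R := SymmetricAlgebra.lift (coord p)

/-- The retraction. -/
def π : MvPolynomial (Fin a) R →ₐ[R] SymmetricAlgebra R (Module.Dual R M) :=
  aeval fun j => SymmetricAlgebra.ι R (Module.Dual R M) (LinearMap.proj j ∘ₗ i)

variable {i p}

theorem dual_eq (h : p ∘ₗ i = LinearMap.id) (d : Module.Dual R M) :
    ∑ j, d (p (Pi.single j 1)) • (LinearMap.proj j ∘ₗ i) = d := by
  apply LinearMap.ext
  intro v
  conv_rhs => rw [show v = p (i v) from (LinearMap.congr_fun h v).symm, pi_eq_sum_univ' (i v), map_sum, map_sum]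
  simp [LinearMap.sum_apply, mul_comm]

theorem π_θ (h : p ∘ₗ i = LinearMap.id) (f : SymmetricAlgebra R (Module.Dual R M)) : π i (θ p f) = f := by
  refine AlgHom.congr_fun (?_ : (π i).comp (θ p) = AlgHom.id R _) f
  ext d
  show π i (θ p (SymmetricAlgebra.ι R _ d)) = SymmetricAlgebra.ι R _ d
  rw [θ, SymmetricAlgebra.lift_ι_apply, coord_apply, map_sum]
  conv_rhs => rw [← dual_eq h d, map_sum]
  simp [π, map_smul]

theorem lift_eq (h : p ∘ₗ i = LinearMap.id) {S : Type u} [CommRing S] [Algebra R S] (φ : Module.Dual R M →ₗ[R] S) :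
    SymmetricAlgebra.lift φ = (aeval fun j => φ (LinearMap.proj j ∘ₗ i)).comp (θ p) := by
  ext d
  show SymmetricAlgebra.lift φ (SymmetricAlgebra.ι R _ d) = aeval _ (θ p (SymmetricAlgebra.ι R _ d))
  rw [θ, SymmetricAlgebra.lift_ι_apply, SymmetricAlgebra.lift_ι_apply, coord_apply, map_sum]
  conv_lhs => rw [← dual_eq h d, map_sum]
  simp [map_smul]

theorem lift_point (p : (Fin a → R) →ₗ[R] M) {S : Type u} [CommRing S] [Algebra R S] (x : Fin a → S) :
    SymmetricAlgebra.lift ((aeval x).toLinearMap ∘ₗ coord p) = (aeval x).comp (θ p) := by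
  ext d
  show SymmetricAlgebra.lift _ (SymmetricAlgebra.ι R _ d) = aeval x (θ p (SymmetricAlgebra.ι R _ d))
  rw [θ, SymmetricAlgebra.lift_ι_apply, SymmetricAlgebra.lift_ι_apply]
  rfl

theorem exists_bundle_point (hR : LGRing.IsLGRing R) (h : p ∘ₗ i = LinearMap.id)
    (U : (Spec (CommRingCat.of (SymmetricAlgebra R (Module.Dual R M)))).Opens) {t : Set (SymmetricAlgebra R (Module.Dual R M))}
    (ht : t.Finite) (hU : (U : Set ↥(Spec (CommRingCat.of (SymmetricAlgebra R (Module.Dual R M))))) = (PrimeSpectrum.zeroLocus t)ᶜ)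
    (hk : ∀ (m : Ideal R) [m.IsMaximal], ∃ x : Fin a → R ⧸ m, ∃ f ∈ t, aeval x (θ p f) ≠ 0) :
    ∃ φ : Module.Dual R M →ₗ[R] R,
      Set.range (Spec.map (CommRingCat.ofHom (SymmetricAlgebra.lift φ).toRingHom)).base ⊆
        (U : Set ↥(Spec (CommRingCat.of (SymmetricAlgebra R (Module.Dual R M))))) := by
  obtain ⟨x, hx⟩ := exists_point hR (θ p) ht hk
  refine ⟨(aeval x).toLinearMap ∘ₗ coord p, ?_⟩
  rw [hU, range_subset_iff, lift_point]
  exact hx

end Bundle

end Groth.Agent.LG97
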